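/-
Sections over a quasi-compact open of an affine scheme, not assumed Noetherian, whose complement
has Noetherian local rings of depth at least two.
-/
import Groth.Agent.HartogsAffine.Basic
import Groth.Agent.Rat20Lib.Hartogs
import Groth.Agent.GrpScheme.HomFlat
import Groth.Agent.Depth.CM
import Mathlib.RingTheory.IsTensorProduct
import Mathlib.RingTheory.TensorProduct.IsBaseChangePi
import Mathlib.RingTheory.Localization.BaseChange
import Mathlib.AlgebraicGeometry.Morphisms.Flat

set_option autoImplicit false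
set_option linter.style.haveILetI false
set_option backward.isDefEq.respectTransparency.types false

universe u

open CategoryTheory CategoryTheory.Limits AlgebraicGeometry

namespace Groth.Agent.TorsorClos

theorem depth_ge_two_of_regular (A : Type u) [CommRing A] [IsRegularLocalRing A]
    (h : (2 : WithBot ℕ∞) ≤ ringKrullDim A) : (2 : ℕ∞) ≤ LocCoh.depth A A := by
  have := Groth.Agent.Depth.isCohenMacaulayLocalRing_of_isRegularLocalRing (R := A)
  rw [← Module.supportDim_self_eq_ringKrullDim, this.supportDim_eq_depth] at h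
  exact WithBot.coe_le_coe.mp h

theorem appLE_top' {A B : Scheme.{u}} (f : A ⟶ B) (h : (⊤ : A.Opens) ≤ f ⁻¹ᵁ ⊤) :
    f.appLE ⊤ ⊤ h = f.appTop := by simp [Scheme.Hom.appLE, Scheme.Hom.appTop]

/-- Stalks of the spectrum of a local ring of a scheme. -/
theorem isIso_stalkMap_fromSpecStalk (V : Scheme.{u}) (x : V) (z : Spec (V.presheaf.stalk x)) :
    IsIso ((V.fromSpecStalk x).stalkMap z) := by
  haveI : Flat (V.fromSpecStalk x) := GrpScheme.HomFlat.flat_fromSpecStalk x
  rw [ConcreteCategory.isIso_iff_bijective]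
  refine ⟨?_, (V.fromSpecStalk x).stalkMap_surjective z⟩
  algebraize [((V.fromSpecStalk x).stalkMap z).hom]
  have : Module.FaithfullyFlat (V.presheaf.stalk (V.fromSpecStalk x z))
      ((Spec (V.presheaf.stalk x)).presheaf.stalk z) :=
    @Module.FaithfullyFlat.of_flat_of_isLocalHom _ _ _ _ _ _ _
      (Flat.stalkMap (V.fromSpecStalk x) z) ((V.fromSpecStalk x).toLRSHom.prop z)
  exact ‹RingHom.FaithfullyFlat _›.injective

/-- Global functions extend uniquely from a quasi-compact open whose complement has Noetherian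
local rings of depth at least two. -/
theorem isIso_appTop_of_depth {V : Scheme.{u}} [IsAffine V] (O : V.Opens) [QuasiCompact O.ι]
    (h : ∀ x : V, x ∉ O → IsNoetherianRing (V.presheaf.stalk x) ∧
      (2 : ℕ∞) ≤ LocCoh.depth (V.presheaf.stalk x) (V.presheaf.stalk x)) :
    IsIso O.ι.appTop := by
  haveI : CompactSpace (O : Scheme.{u}) := QuasiCompact.compactSpace_of_compactSpace O.ι
  haveI : QuasiSeparatedSpace (O : Scheme.{u}) := quasiSeparatedSpace_of_quasiSeparated O.ι
  have loc : ∀ x : V, ∃ (N : CommRingCat.{u}) (l : Γ((O : Scheme.{u}), ⊤) ⟶ N)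
      (r : V.presheaf.stalk x ⟶ N),
      IsPushout O.ι.appTop (V.presheaf.germ ⊤ x trivial) l r ∧ Function.Bijective r.hom := by
    intro x
    let ρ := V.fromSpecStalk x
    haveI : Flat ρ := GrpScheme.HomFlat.flat_fromSpecStalk x
    have H := IsPullback.of_hasPullback O.ι ρ
    have hiso := isIso_pushoutSection_of_isQuasiSeparated_of_flat_right H
      (US := ⊤) (UT := ⊤) (UX := ⊤) (UY := ⊤) (by simp) (by simp) (by simp)
      (isAffineOpen_top _) (isAffineOpen_top _) isCompact_univ
      (isQuasiSeparated_univ_iff.2 inferInstance)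
    have hpo : IsPushout O.ι.appTop ρ.appTop (pullback.fst O.ι ρ).appTop
        (pullback.snd O.ι ρ).appTop := by
      have h0 := (isIso_pushoutSection_iff ..).1 hiso
      simp only [appLE_top'] at h0
      exact h0
    refine ⟨Γ(pullback O.ι ρ, ⊤), (pullback.fst O.ι ρ).appTop,
      (Scheme.ΓSpecIso _).inv ≫ (pullback.snd O.ι ρ).appTop,
      hpo.of_iso (Iso.refl _) (Iso.refl _) (Scheme.ΓSpecIso _) (Iso.refl _) (by simp)
        (by simp [ρ, Scheme.fromSpecStalk_appTop]) (by simp) (by simp), ?_⟩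
    rw [CommRingCat.hom_comp, RingHom.coe_comp]
    refine Function.Bijective.comp ?_
      (ConcreteCategory.bijective_of_isIso (Scheme.ΓSpecIso (V.presheaf.stalk x)).inv)
    let s := pullback.snd O.ι ρ
    have hrange : Set.range s.base = ρ.base ⁻¹' (O : Set V) := by
      rw [Scheme.Pullback.range_snd, Scheme.Opens.range_ι]
    by_cases hx : x ∈ O
    · haveI : IsIso s := by
        haveI : Surjective s := ⟨Set.range_eq_univ.mp (by
          rw [hrange, Set.eq_univ_iff_forall]
          intro z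
          have : ρ.base z ∈ Set.range ρ.base := ⟨z, rfl⟩
          rw [Scheme.range_fromSpecStalk] at this
          exact (show ρ.base z ⤳ x from this).mem_open O.isOpen hx)⟩
        haveI : IsOpenImmersion s := inferInstance
        haveI : Epi s.base := (TopCat.epi_iff_surjective _).mpr s.surjective
        exact IsOpenImmersion.isIso s
      haveI : IsIso s.appTop := inferInstanceAs (IsIso (s.app ⊤))
      exact ConcreteCategory.bijective_of_isIso s.appTop
    · haveI := (h x hx).1
      haveI : IsLocallyNoetherian (Spec (V.presheaf.stalk x)) := inferInstance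
      haveI : IsOpenImmersion s := inferInstance
      have hb := Rat20Lib.bijective_appTop (W := Spec (V.presheaf.stalk x)) s.opensRange
        fun z hz => by
          have hz' : ρ.base z ∉ O := fun hO => hz (by
            show z ∈ Set.range s.base
            rw [hrange]; exact hO)
          haveI := (h _ hz').1
          haveI := isIso_stalkMap_fromSpecStalk V x z
          rw [HartogsAffine.depth_congr_ringEquiv (asIso (ρ.stalkMap z)).commRingCatIsoToRingEquiv]
          exact (h _ hz').2
      have hs : s.appTop = s.opensRange.ι.appTop ≫ (Scheme.Hom.isoOpensRange s).hom.appTop := by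
        rw [← Scheme.Hom.comp_appTop, Scheme.Hom.isoOpensRange_hom_ι]
      rw [hs, CommRingCat.hom_comp, RingHom.coe_comp]
      haveI : IsIso (Scheme.Hom.isoOpensRange s).hom.appTop :=
        inferInstanceAs (IsIso ((Scheme.Hom.isoOpensRange s).hom.app ⊤))
      exact (ConcreteCategory.bijective_of_isIso (Scheme.Hom.isoOpensRange s).hom.appTop).comp hb
  have hinj : Function.Injective O.ι.appTop.hom := by
    rw [injective_iff_map_eq_zero]
    intro a ha
    refine TopCat.Presheaf.section_ext V.sheaf ⊤ a 0 fun x hx => ?_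
    obtain ⟨N, l, r, hp, hr⟩ := loc x
    apply hr.1
    show r.hom (V.presheaf.germ ⊤ x trivial a) = r.hom (V.presheaf.germ ⊤ x trivial 0)
    rw [map_zero, map_zero]
    exact (congr($(hp.w).hom a)).symm.trans (by
      simp only [CommRingCat.hom_comp, RingHom.comp_apply, ha, map_zero])
  rw [ConcreteCategory.isIso_iff_bijective]
  refine ⟨hinj, fun b => ?_⟩
  let I : Ideal Γ(V, ⊤) :=
    { carrier := {a | O.ι.appTop.hom a * b ∈ Set.range O.ι.appTop.hom}
      zero_mem' := ⟨0, by simp⟩
      add_mem' := by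
        rintro a a' ⟨c, hc⟩ ⟨c', hc'⟩
        exact ⟨c + c', by rw [map_add, hc, hc', map_add, add_mul]⟩
      smul_mem' := by
        rintro d a ⟨c, hc⟩
        exact ⟨d * c, by rw [map_mul, hc, smul_eq_mul, map_mul, mul_assoc]⟩ }
  suffices hI : I = ⊤ by
    obtain ⟨c, hc⟩ := (hI ▸ Submodule.mem_top : (1 : Γ(V, ⊤)) ∈ I)
    exact ⟨c, hc.trans (by rw [map_one, one_mul])⟩
  by_contra hI
  obtain ⟨m, hm, hIm⟩ := Ideal.exists_le_maximal I hI
  obtain ⟨x, hx⟩ : ∃ x : V, ((isAffineOpen_top V).primeIdealOf ⟨x, trivial⟩).asIdeal = m :=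
    ⟨(isAffineOpen_top V).fromSpec ⟨m, hm.isPrime⟩, congrArg PrimeSpectrum.asIdeal
      ((isAffineOpen_top V).fromSpec.isOpenEmbedding.injective
        ((isAffineOpen_top V).fromSpec_primeIdealOf _))⟩
  obtain ⟨N, l, r, hp, hr⟩ := loc x
  letI : Algebra Γ(V, ⊤) (V.presheaf.stalk x) :=
    TopCat.Presheaf.algebra_section_stalk V.presheaf (⟨x, trivial⟩ : (⊤ : V.Opens))
  letI : Algebra Γ(V, ⊤) Γ((O : Scheme.{u}), ⊤) := O.ι.appTop.hom.toAlgebra
  letI : Algebra Γ((O : Scheme.{u}), ⊤) N := l.hom.toAlgebra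
  letI : Algebra (V.presheaf.stalk x) N := r.hom.toAlgebra
  letI : Algebra Γ(V, ⊤) N := (l.hom.comp O.ι.appTop.hom).toAlgebra
  haveI : IsScalarTower Γ(V, ⊤) Γ((O : Scheme.{u}), ⊤) N := .of_algebraMap_eq' rfl
  haveI : IsScalarTower Γ(V, ⊤) (V.presheaf.stalk x) N :=
    .of_algebraMap_eq' (congrArg CommRingCat.Hom.hom hp.w)
  haveI : IsLocalization.AtPrime (V.presheaf.stalk x) m := by
    subst hx
    exact (isAffineOpen_top V).isLocalization_stalk ⟨x, trivial⟩
  have hP : Algebra.IsPushout Γ(V, ⊤) Γ((O : Scheme.{u}), ⊤) (V.presheaf.stalk x) N :=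
    CommRingCat.isPushout_iff_isPushout.mp hp
  haveI : IsLocalizedModule m.primeCompl
      (IsScalarTower.toAlgHom Γ(V, ⊤) Γ((O : Scheme.{u}), ⊤) N).toLinearMap :=
    (isLocalizedModule_iff_isBaseChange m.primeCompl (V.presheaf.stalk x) _).mpr hP.symm.out
  obtain ⟨c, hc⟩ := hr.2 (l.hom b)
  obtain ⟨⟨a, s⟩, has⟩ := IsLocalization.surj m.primeCompl c
  have e : (IsScalarTower.toAlgHom Γ(V, ⊤) Γ((O : Scheme.{u}), ⊤) N).toLinearMap
      (O.ι.appTop.hom s * b) =
      (IsScalarTower.toAlgHom Γ(V, ⊤) Γ((O : Scheme.{u}), ⊤) N).toLinearMap (O.ι.appTop.hom a) := by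
    show l.hom (O.ι.appTop.hom s * b) = l.hom (O.ι.appTop.hom a)
    rw [map_mul, ← hc]
    have hw : ∀ d, l.hom (O.ι.appTop.hom d) = r.hom (algebraMap Γ(V, ⊤) (V.presheaf.stalk x) d) :=
      fun d => congr($(hp.w).hom d)
    rw [hw, hw, ← map_mul, mul_comm, has]
  obtain ⟨t, ht⟩ := IsLocalizedModule.exists_of_eq (S := m.primeCompl) e
  refine (mul_mem t.2 s.2 : (t : Γ(V, ⊤)) * s ∈ m.primeCompl) (hIm ⟨(t : Γ(V, ⊤)) * a, ?_⟩)
  rw [map_mul, map_mul, mul_assoc]
  exact ht.symm

/-- The same for an open immersion. -/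
theorem isIso_appTop_of_isOpenImmersion {W V : Scheme.{u}} [IsAffine V] (s : W ⟶ V)
    [IsOpenImmersion s] [QuasiCompact s]
    (h : ∀ x : V, x ∉ Set.range s.base → IsNoetherianRing (V.presheaf.stalk x) ∧
      (2 : ℕ∞) ≤ LocCoh.depth (V.presheaf.stalk x) (V.presheaf.stalk x)) :
    IsIso s.appTop := by
  haveI : QuasiCompact s.opensRange.ι := by
    rw [← Scheme.Hom.isoOpensRange_inv_comp s]
    infer_instance
  haveI := isIso_appTop_of_depth s.opensRange h
  haveI : IsIso (Scheme.Hom.isoOpensRange s).hom.appTop :=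
    inferInstanceAs (IsIso ((Scheme.Hom.isoOpensRange s).hom.app ⊤))
  rw [← Scheme.Hom.isoOpensRange_hom_ι s, Scheme.Hom.comp_appTop]
  infer_instance

/-- Comparison of the functions of a restriction with the functions on the open. -/
theorem app_bijective_of_restrict {X' X : Scheme.{u}} (ρ : X' ⟶ X) (V : X.Opens)
    (h : Function.Bijective (ρ ∣_ V).appTop.hom) : Function.Bijective (ρ.app V).hom := by
  let i₁ := V.topIso
  let i₂ := (ρ ⁻¹ᵁ V).topIso
  have hcomm : (ρ ∣_ V).appTop = i₁.hom ≫ ρ.app V ≫ i₂.inv := by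
    rw [← cancel_mono i₂.hom, Category.assoc, Category.assoc, Iso.inv_hom_id, Category.comp_id]
    simp [i₁, i₂, morphismRestrict_appTop, Scheme.Hom.app_eq_appLE]
    erw [Scheme.Hom.appLE_map, Scheme.Hom.map_appLE]
  have e : ρ.app V = i₁.inv ≫ (ρ ∣_ V).appTop ≫ i₂.hom := by
    rw [hcomm]; simp
  rw [e, CommRingCat.hom_comp, CommRingCat.hom_comp, RingHom.coe_comp, RingHom.coe_comp]
  exact ((ConcreteCategory.bijective_of_isIso i₂.hom).comp h).comp
    (ConcreteCategory.bijective_of_isIso i₁.inv)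

end Groth.Agent.TorsorClos
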