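/-
Closures of generic torsors: over a base which is integrally closed in a schematically dominant
piece, an action of a finite flat group which is a torsor on that piece is a torsor.
-/
import Groth.Agent.GrpdLib.ActionGrpd
import Groth.Agent.GrpdLib.Restrict
import Groth.Agent.GrpdLib.QuotEquiv
import Groth.Agent.GITLib.TorsorSch
import Groth.Agent.GITLib.Pushforward
import Groth.Agent.NoriLib.SubTorsor
import Groth.Prelude.Def_ActBC
import Mathlib.AlgebraicGeometry.Morphisms.SchemeTheoreticallyDominant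

set_option autoImplicit false
set_option linter.style.haveILetI false
set_option backward.isDefEq.respectTransparency false
set_option backward.isDefEq.respectTransparency.types false

universe u

open CategoryTheory CategoryTheory.Limits MonoidalCategory CartesianMonoidalCategory MonObj AlgebraicGeometry

namespace Groth.Agent.TorsorClos

open Groth.Agent.GITLib

variable {X X' : Scheme.{u}} (ρ : X' ⟶ X)

/-- An action defined generically on a stable closed subscheme extends. -/
theorem exists_action_closure [QuasiCompact ρ] {G H P Z : Over X} [GrpObj G] [GrpObj H] [Flat H.hom]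
    (a : AlgGrp.Action G P) (i : H ⟶ G) [IsMonHom i] (j : Z ⟶ P) [IsClosedImmersion j.left]
    [IsSchemeTheoreticallyDominant (pullback.fst Z.hom ρ)]
    (c : AlgGrp.Action (Red.bc ρ H) (Red.bc ρ Z))
    (hc : AlgGrp.Action.IsEquivariant c ((a.restrict i).bc ρ) ((Over.pullback ρ).map j)) :
    ∃ b : AlgGrp.Action H Z,
      (∀ {U : Over X} (h : U ⟶ H) (v : U ⟶ Z),
        (lift h v ≫ b.act) ≫ j = lift (h ≫ i) (v ≫ j) ≫ a.act) ∧
      ∀ {T : Over X'} (h : (Over.map ρ).obj T ⟶ H) (v : (Over.map ρ).obj T ⟶ Z),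
        lift ((Over.mapPullbackAdj ρ).homEquiv T H h) ((Over.mapPullbackAdj ρ).homEquiv T Z v) ≫ c.act =
          (Over.mapPullbackAdj ρ).homEquiv T Z (lift h v ≫ b.act) := by
  haveI : Mono j := Over.mono_of_mono_left j
  let M : H ⊗ Z ⟶ P := lift (fst H Z ≫ i) (snd H Z ≫ j) ≫ a.act
  have key : ∀ {T : Over X'} (h : (Over.map ρ).obj T ⟶ H) (v : (Over.map ρ).obj T ⟶ Z),
      ((Over.mapPullbackAdj ρ).homEquiv T Z).symm
        (lift ((Over.mapPullbackAdj ρ).homEquiv T H h) ((Over.mapPullbackAdj ρ).homEquiv T Z v) ≫ c.act) ≫ j =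
      lift (h ≫ i) (v ≫ j) ≫ a.act := by
    intro T h v
    apply ((Over.mapPullbackAdj ρ).homEquiv T P).injective
    rw [Adjunction.homEquiv_naturality_right, Equiv.apply_symm_apply, Category.assoc, hc,
      lift_whiskerLeft_assoc, ← Adjunction.homEquiv_naturality_right,
      AlgGrp.Action.lift_homEquiv_bc_act, AlgGrp.Action.lift_restrict_act]
  haveI hi : IsIso (pullback.fst M j) := by
    have hsq := (IsPullback.of_hasPullback M j).map (Over.forget X)
    haveI : IsClosedImmersion (pullback.fst M j).left :=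
      MorphismProperty.of_isPullback hsq.flip ‹IsClosedImmersion j.left›
    let e := (Over.mapPullbackAdj ρ).counit.app (H ⊗ Z)
    let l := pullback.lift e
      (((Over.mapPullbackAdj ρ).homEquiv _ Z).symm
        (lift ((Over.mapPullbackAdj ρ).homEquiv _ H (e ≫ fst H Z))
          ((Over.mapPullbackAdj ρ).homEquiv _ Z (e ≫ snd H Z)) ≫ c.act)) (by
      rw [key, ← Category.assoc, comp_lift, Category.assoc, Category.assoc])
    haveI : IsSchemeTheoreticallyDominant e.left := by
      haveI : Flat (snd H Z).left := inferInstanceAs (Flat (pullback.snd H.hom Z.hom))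
      have h₁ : (e).left = pullback.fst (H ⊗ Z).hom ρ := by
        simp [e, Over.mapPullbackAdj]
      rw [h₁]
      let m : pullback (H ⊗ Z).hom ρ ⟶ pullback Z.hom ρ :=
        pullback.lift (pullback.fst _ _ ≫ (snd H Z).left) (pullback.snd _ _) (by
          rw [Category.assoc, Over.w, pullback.condition])
      have hm : IsPullback m (pullback.fst (H ⊗ Z).hom ρ) (pullback.fst Z.hom ρ) (snd H Z).left := by
        refine IsPullback.of_right (h₁₂ := pullback.snd Z.hom ρ) (h₂₂ := Z.hom) (v₁₃ := ρ) ?_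
          (pullback.lift_fst _ _ _) (IsPullback.of_hasPullback Z.hom ρ).flip
        rw [pullback.lift_snd, Over.w]
        exact (IsPullback.of_hasPullback (H ⊗ Z).hom ρ).flip
      exact IsSchemeTheoreticallyDominant.of_isPullback hm
    have hl : l.left ≫ (pullback.fst M j).left = e.left := by
      rw [← Over.comp_left, pullback.lift_fst]
    haveI : IsIso (pullback.fst M j).left := by
      rw [IsClosedImmersion.isIso_iff_ker_eq_bot, ← le_bot_iff, ← e.left.ker_eq_bot, ← hl]
      exact Scheme.Hom.le_ker_comp _ _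
    haveI : IsIso ((Over.forget X).map (pullback.fst M j)) := ‹IsIso (pullback.fst M j).left›
    exact isIso_of_reflects_iso _ (Over.forget X)
  obtain ⟨b, hb⟩ := NoriLib.exists_action_of_mono a i j (fun {U} h v =>
    ⟨lift h v ≫ inv (pullback.fst M j) ≫ pullback.snd M j, by
      rw [Category.assoc, Category.assoc, ← pullback.condition, IsIso.inv_hom_id_assoc]
      show lift h v ≫ M = _
      rw [← Category.assoc, comp_lift, lift_fst_assoc, lift_snd_assoc]⟩)
  refine ⟨b, hb, fun {T} h v => ?_⟩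
  rw [← Equiv.symm_apply_eq, ← cancel_mono j, key, hb]

/-- The main criterion. -/
theorem isTorsorFor_of_dense [IsAffineHom ρ]
    (hinj : ∀ V : X.Opens, IsAffineOpen V → Function.Injective (ρ ∣_ V).appTop.hom)
    (hic : ∀ V : X.Opens, IsAffineOpen V → ∀ y, (ρ ∣_ V).appTop.hom.IsIntegralElem y →
      y ∈ Set.range (ρ ∣_ V).appTop.hom)
    {G Z : Over X} [GrpObj G] [IsFinite G.hom] [Flat G.hom] [LocallyOfFinitePresentation G.hom]
    [IsFinite Z.hom] (a : AlgGrp.Action G Z) [Mono (lift a.act (snd G Z))]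
    [IsSchemeTheoreticallyDominant (pullback.fst Z.hom ρ)]
    (hgen : NonAbH1.IsTorsorFor Scheme.fpqcPrecoverage (a.bc ρ))
    [Flat (Red.bc ρ Z).hom] :
    NonAbH1.IsTorsorFor Scheme.fppfPrecoverage a := by
  haveI : Surjective (Red.bc ρ Z).hom := surjective_of_isLocallyTrivialFor hgen.2
  let 𝒢 := GrpdLib.ActionGrpd.grpd a
  haveI : IsFinite (snd G Z).left := inferInstanceAs (IsFinite (pullback.snd G.hom Z.hom))
  haveI : Flat (snd G Z).left := inferInstanceAs (Flat (pullback.snd G.hom Z.hom))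
  haveI : LocallyOfFinitePresentation (snd G Z).left :=
    inferInstanceAs (LocallyOfFinitePresentation (pullback.snd G.hom Z.hom))
  -- the statement over an affine open of the base
  have loc : ∀ V : X.affineOpens,
      (Flat (Z.hom ∣_ V.1) ∧ Surjective (Z.hom ∣_ V.1) ∧
        LocallyOfFinitePresentation (Z.hom ∣_ V.1)) ∧
      ∀ {U : Scheme.{u}} (x y : U ⟶ (Z.hom ⁻¹ᵁ V.1 : Z.left.Opens)),
        x ≫ Z.hom ∣_ V.1 = y ≫ Z.hom ∣_ V.1 →
        ∃ r : U ⟶ (G ⊗ Z).left, r ≫ a.act.left = x ≫ (Z.hom ⁻¹ᵁ V.1).ι ∧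
          r ≫ (snd G Z).left = y ≫ (Z.hom ⁻¹ᵁ V.1).ι := by
    rintro ⟨V, hV⟩
    haveI : IsAffine V.toScheme := hV
    let W : 𝒢.U.Opens := Z.hom ⁻¹ᵁ V
    have hW : 𝒢.s ⁻¹ᵁ W = 𝒢.t ⁻¹ᵁ W := by
      show (snd G Z).left ⁻¹ᵁ (Z.hom ⁻¹ᵁ V) = a.act.left ⁻¹ᵁ (Z.hom ⁻¹ᵁ V)
      rw [← Scheme.Hom.comp_preimage, ← Scheme.Hom.comp_preimage, Over.w, Over.w]
    let R := GrpdLib.restrict 𝒢 W hW
    haveI : IsFinite 𝒢.s := ‹IsFinite (snd G Z).left›
    haveI : Flat 𝒢.s := ‹Flat (snd G Z).left›
    haveI : LocallyOfFinitePresentation 𝒢.s := ‹LocallyOfFinitePresentation (snd G Z).left›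
    haveI : IsAffine R.U := hV.preimage Z.hom
    haveI : IsAffineHom 𝒢.s := IsFinite.toIsAffineHom
    haveI : IsAffine R.R := IsAffineOpen.preimage (f := 𝒢.s) (hV.preimage Z.hom)
    haveI : IsFinite R.s :=
      MorphismProperty.of_isPullback (isPullback_morphismRestrict 𝒢.s W).flip ‹IsFinite 𝒢.s›
    haveI : Flat R.s :=
      MorphismProperty.of_isPullback (isPullback_morphismRestrict 𝒢.s W).flip ‹Flat 𝒢.s›
    haveI : LocallyOfFinitePresentation R.s :=
      MorphismProperty.of_isPullback (isPullback_morphismRestrict 𝒢.s W).flip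
        ‹LocallyOfFinitePresentation 𝒢.s›
    let ιW : R.U ⟶ Z.left := (Z.hom ⁻¹ᵁ V).ι
    let ιR : R.R ⟶ (G ⊗ Z).left := (𝒢.s ⁻¹ᵁ W).ι
    haveI : IsOpenImmersion ιW := inferInstanceAs (IsOpenImmersion (Z.hom ⁻¹ᵁ V).ι)
    haveI : IsOpenImmersion ιR := inferInstanceAs (IsOpenImmersion (𝒢.s ⁻¹ᵁ W).ι)
    have hRs : R.s ≫ ιW = ιR ≫ (snd G Z).left := morphismRestrict_ι _ _
    have hRt : R.t ≫ ιW = ιR ≫ a.act.left := Scheme.Hom.resLE_comp_ι _ _
    haveI : Mono R.j := ⟨fun {U} u v huv => by
      have ht : u ≫ R.t = v ≫ R.t := by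
        have h : R.j ≫ pullback.fst R.pU R.pU = R.t := pullback.lift_fst _ _ _
        rw [← h, ← Category.assoc, huv, Category.assoc]
      have hs : u ≫ R.s = v ≫ R.s := by
        have h : R.j ≫ pullback.snd R.pU R.pU = R.s := pullback.lift_snd _ _ _
        rw [← h, ← Category.assoc, huv, Category.assoc]
      have ht' : (u ≫ ιR) ≫ a.act.left = (v ≫ ιR) ≫ a.act.left := by
        rw [Category.assoc, Category.assoc, ← hRt, reassoc_of% ht]
      have hs' : (u ≫ ιR) ≫ (snd G Z).left = (v ≫ ιR) ≫ (snd G Z).left := by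
        rw [Category.assoc, Category.assoc, ← hRs, reassoc_of% hs]
      rw [← cancel_mono ιR]
      let T : Over X := Over.mk ((u ≫ ιR) ≫ (G ⊗ Z).hom)
      let u' : T ⟶ G ⊗ Z := Over.homMk (u ≫ ιR) rfl
      let v' : T ⟶ G ⊗ Z := Over.homMk (v ≫ ιR) (by
        show (v ≫ ιR) ≫ (G ⊗ Z).hom = (u ≫ ιR) ≫ (G ⊗ Z).hom
        rw [← Over.w (snd G Z), ← Category.assoc, ← Category.assoc (u ≫ ιR), hs'])
      have e : u' = v' := by
        rw [← cancel_mono (lift a.act (snd G Z)), comp_lift, comp_lift]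
        congr 1
        · exact Over.OverMorphism.ext ht'
        · exact Over.OverMorphism.ext hs'
      exact congrArg CommaMorphism.left e⟩
    let fV : R.U ⟶ V.toScheme := Z.hom ∣_ V
    haveI : IsFinite fV :=
      MorphismProperty.of_isPullback (isPullback_morphismRestrict Z.hom V).flip ‹IsFinite Z.hom›
    -- the piece over the generic part
    let V' : X'.Opens := ρ ⁻¹ᵁ V
    let ρV : V'.toScheme ⟶ V.toScheme := ρ ∣_ V
    haveI : IsAffine V'.toScheme := hV.preimage ρ
    let r : pullback fV ρV ⟶ R.U := pullback.fst fV ρV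
    let q : pullback fV ρV ⟶ V'.toScheme := pullback.snd fV ρV
    have hρV : ρV ≫ V.ι = V'.ι ≫ ρ := morphismRestrict_ι _ _
    have hfV : fV ≫ V.ι = ιW ≫ Z.hom := morphismRestrict_ι _ _
    let m : pullback fV ρV ⟶ (Red.bc ρ Z).left :=
      pullback.lift (r ≫ ιW) (q ≫ V'.ι) (by
        rw [Category.assoc, Category.assoc, ← hρV, ← hfV]
        exact pullback.condition_assoc _)
    have hbig : IsPullback (r ≫ ιW) q Z.hom (ρV ≫ V.ι) :=
      (IsPullback.of_hasPullback fV ρV).paste_horiz (isPullback_morphismRestrict Z.hom V).flip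
    have hbig' : IsPullback r (q ≫ V'.ι) (fV ≫ V.ι) ρ :=
      (IsPullback.of_hasPullback fV ρV).paste_vert (isPullback_morphismRestrict ρ V)
    have hm₂ : IsPullback m q (pullback.snd Z.hom ρ) V'.ι := by
      refine IsPullback.of_right (h₁₂ := pullback.fst Z.hom ρ) (h₂₂ := ρ) (v₁₃ := Z.hom) ?_
        (pullback.lift_snd _ _ _) (IsPullback.of_hasPullback Z.hom ρ)
      rw [pullback.lift_fst, ← hρV]
      exact hbig
    have hm₁ : IsPullback m r (pullback.fst Z.hom ρ) ιW := by
      refine IsPullback.of_right (h₁₂ := pullback.snd Z.hom ρ) (h₂₂ := Z.hom) (v₁₃ := ρ) ?_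
        (pullback.lift_fst _ _ _) (IsPullback.of_hasPullback Z.hom ρ).flip
      rw [pullback.lift_snd, ← hfV]
      exact hbig'.flip
    haveI : Flat q := MorphismProperty.of_isPullback hm₂ ‹Flat (Red.bc ρ Z).hom›
    haveI : Surjective q := MorphismProperty.of_isPullback hm₂ ‹Surjective (Red.bc ρ Z).hom›
    haveI : IsAffine (pullback fV ρV) := inferInstance
    haveI : IsSchemeTheoreticallyDominant r := IsSchemeTheoreticallyDominant.of_isPullback hm₁
    have hrinj : Function.Injective r.appTop.hom := r.app_injective ⊤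
    have hqinj : Function.Injective q.appTop.hom :=
      ((Flat.flat_and_surjective_iff_faithfullyFlat_of_isAffine q).mp ⟨inferInstance, inferInstance⟩).injective
    -- invariant functions come from the generic part of the base
    have hdesc : ∀ {U : Scheme.{u}} (u v : U ⟶ pullback fV ρV), u ≫ q = v ≫ q →
        u ≫ r ≫ R.toQuot = v ≫ r ≫ R.toQuot := by
      intro U u v huv
      let T : Over X' := Over.mk (u ≫ q ≫ V'.ι)
      let x' : T ⟶ Red.bc ρ Z := Over.homMk (u ≫ m) (by
        show (u ≫ m) ≫ pullback.snd Z.hom ρ = u ≫ q ≫ V'.ι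
        rw [Category.assoc, pullback.lift_snd])
      let y' : T ⟶ Red.bc ρ Z := Over.homMk (v ≫ m) (by
        show (v ≫ m) ≫ pullback.snd Z.hom ρ = u ≫ q ≫ V'.ι
        rw [Category.assoc, pullback.lift_snd, reassoc_of% huv])
      obtain ⟨g, hg, -⟩ := existsUnique_diff hgen.1 y' x'
      obtain ⟨g₀, rfl⟩ := ((Over.mapPullbackAdj ρ).homEquiv T G).surjective g
      obtain ⟨y₀, hy₀⟩ := ((Over.mapPullbackAdj ρ).homEquiv T Z).surjective y'
      rw [← hy₀, AlgGrp.Action.lift_homEquiv_bc_act, ← Equiv.eq_symm_apply] at hg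
      rw [← Equiv.eq_symm_apply] at hy₀
      let arr := (lift g₀ y₀).left
      have hys : arr ≫ (snd G Z).left = v ≫ r ≫ ιW := by
        rw [← Over.comp_left, lift_snd, hy₀]
        show (v ≫ m) ≫ pullback.fst Z.hom ρ = _
        rw [Category.assoc, pullback.lift_fst]
      have hyt : arr ≫ a.act.left = u ≫ r ≫ ιW := by
        rw [← Over.comp_left, hg]
        show (u ≫ m) ≫ pullback.fst Z.hom ρ = _
        rw [Category.assoc, pullback.lift_fst]
      have hrange : Set.range arr ⊆ Set.range ιR := by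
        rintro _ ⟨z, rfl⟩
        show arr z ∈ Set.range (𝒢.s ⁻¹ᵁ W).ι
        rw [Scheme.Opens.range_ι]
        show (snd G Z).left (arr z) ∈ W
        rw [← Scheme.Hom.comp_apply, hys, ← Category.assoc, Scheme.Hom.comp_apply]
        exact ((v ≫ r) z).2
      let arr₀ : U ⟶ R.R := IsOpenImmersion.lift ιR arr hrange
      have h1 : arr₀ ≫ R.t = u ≫ r := by
        rw [← cancel_mono ιW, Category.assoc, hRt, ← Category.assoc, IsOpenImmersion.lift_fac,
          Category.assoc]
        exact hyt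
      have h2 : arr₀ ≫ R.s = v ≫ r := by
        rw [← cancel_mono ιW, Category.assoc, hRs, ← Category.assoc, IsOpenImmersion.lift_fac,
          Category.assoc]
        exact hys
      rw [← reassoc_of% h1, ← reassoc_of% h2, GrpdLib.toQuot_condition]
    haveI : QuasiCompact q := inferInstance
    let d : V'.toScheme ⟶ Spec (CommRingCat.of R.invariants) :=
      EffectiveEpi.desc q (r ≫ R.toQuot) hdesc
    have hd : q ≫ d = r ≫ R.toQuot := EffectiveEpi.fac q (r ≫ R.toQuot) hdesc
    -- functions on the quotient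
    have hcond : fV.appTop ≫ r.appTop = ρV.appTop ≫ q.appTop := by
      rw [← Scheme.Hom.comp_appTop, ← Scheme.Hom.comp_appTop, pullback.condition]
    have hfVinv : ∀ x, fV.appTop.hom x ∈ R.invariants := by
      intro x
      have e : R.s ≫ fV = R.t ≫ fV := by
        rw [← cancel_mono V.ι, Category.assoc, Category.assoc, hfV, reassoc_of% hRs,
          reassoc_of% hRt]
        show _ ≫ (snd G Z).left ≫ Z.hom = _ ≫ a.act.left ≫ Z.hom
        rw [Over.w, Over.w]
      exact congr((Scheme.Hom.appTop $e).hom x)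
    let θ : Γ(V.toScheme, ⊤) ⟶ CommRingCat.of R.invariants :=
      CommRingCat.ofHom (fV.appTop.hom.codRestrict R.invariants hfVinv)
    have hθ : Function.Bijective θ.hom := by
      constructor
      · intro x y hxy
        apply hinj V hV
        apply hqinj
        have h1 : fV.appTop.hom x = fV.appTop.hom y := congrArg Subtype.val hxy
        have h2 := congrArg r.appTop.hom h1
        exact (congr($(hcond).hom x)).symm.trans (h2.trans congr($(hcond).hom y))
      · rintro ⟨c, hc⟩
        let c₀ := (Scheme.ΓSpecIso (CommRingCat.of R.invariants)).inv.hom ⟨c, hc⟩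
        have hqc : q.appTop.hom (d.appTop.hom c₀) = r.appTop.hom c := by
          have := congr((Scheme.Hom.appTop $hd).hom c₀)
          simp only [Scheme.Hom.comp_appTop, CommRingCat.hom_comp, RingHom.comp_apply] at this
          rw [this, GrpdLib.toQuot_appTop, CommRingCat.hom_comp, RingHom.comp_apply]
          congr 1
          show R.invariants.subtype _ = c
          simp [c₀]
        obtain ⟨P, hPm, hP⟩ := fV.finite_appTop.to_isIntegral c
        have hint : ρV.appTop.hom.IsIntegralElem (d.appTop.hom c₀) := by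
          refine ⟨P, hPm, hqinj ?_⟩
          rw [Polynomial.hom_eval₂, map_zero, hqc, ← CommRingCat.hom_comp, ← hcond,
            CommRingCat.hom_comp, ← Polynomial.hom_eval₂, hP, map_zero]
        obtain ⟨x, hx⟩ := hic V hV _ hint
        refine ⟨x, Subtype.ext (hrinj ?_)⟩
        show r.appTop.hom (fV.appTop.hom x) = r.appTop.hom c
        rw [← hqc, ← hx]
        exact congr($(hcond).hom x)
    haveI : IsIso θ := (ConcreteCategory.isIso_iff_bijective θ).2 hθ
    let e : Spec (CommRingCat.of R.invariants) ⟶ V.toScheme :=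
      Spec.map θ ≫ V.toScheme.isoSpec.inv
    have he : R.toQuot ≫ e = fV := by
      show (R.U.toSpecΓ ≫ Spec.map _) ≫ Spec.map θ ≫ _ = fV
      rw [Category.assoc, ← Spec.map_comp_assoc,
        show θ ≫ CommRingCat.ofHom R.invariants.subtype = fV.appTop from rfl,
        ← Scheme.toSpecΓ_naturality_assoc, ← Scheme.isoSpec_hom, Iso.hom_inv_id, Category.comp_id]
    haveI : IsIso e := inferInstance
    obtain ⟨h1, h2, h3⟩ := GrpdLib.finLocFree_toQuot R
    haveI := h2
    haveI := h3
    haveI : Surjective R.toQuot := ⟨GrpdLib.surjective_toQuot R⟩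
    refine ⟨⟨?_, ?_, ?_⟩, fun {U} x y hxy => ?_⟩
    · show Flat fV; rw [← he]; infer_instance
    · show Surjective fV; rw [← he]; infer_instance
    · show LocallyOfFinitePresentation fV; rw [← he]; infer_instance
    · have hxy' : x ≫ R.toQuot = y ≫ R.toQuot := by
        rw [← cancel_mono e, Category.assoc, Category.assoc, he]
        exact hxy
      let z := (GrpdLib.isPullback_toQuot R).lift x y hxy'
      refine ⟨z ≫ ιR, ?_, ?_⟩
      · show (z ≫ ιR) ≫ a.act.left = x ≫ ιW
        rw [Category.assoc, ← hRt, ← Category.assoc, IsPullback.lift_fst]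
      · show (z ≫ ιR) ≫ (snd G Z).left = y ≫ ιW
        rw [Category.assoc, ← hRs, ← Category.assoc, IsPullback.lift_snd]
  have hsup := iSup_affineOpens_eq_top X
  haveI : Flat Z.hom :=
    (IsZariskiLocalAtTarget.iff_of_iSup_eq_top (P := @Flat) _ hsup).mpr fun V => (loc V).1.1
  haveI : Surjective Z.hom :=
    (IsZariskiLocalAtTarget.iff_of_iSup_eq_top (P := @Surjective) _ hsup).mpr fun V => (loc V).1.2.1
  haveI : LocallyOfFinitePresentation Z.hom :=
    (IsZariskiLocalAtTarget.iff_of_iSup_eq_top (P := @LocallyOfFinitePresentation) _ hsup).mpr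
      fun V => (loc V).1.2.2
  refine ⟨?_, Presieve.singleton Z.hom, Z.hom.singleton_mem_fppfPrecoverage, ?_⟩
  · show IsIso (lift a.act (snd G Z))
    let ψ := lift a.act (snd G Z)
    have hst : TopologicalSpace.IsOpenCover
        (fun V : X.affineOpens => (Z ⊗ Z).hom ⁻¹ᵁ V.1) := by
      rw [TopologicalSpace.IsOpenCover, ← Scheme.Hom.preimage_iSup, hsup]
      rfl
    have hsec : ∀ V : X.affineOpens, ∃ s : ((Z ⊗ Z).hom ⁻¹ᵁ V.1 : (Z ⊗ Z).left.Opens).toScheme ⟶
        (G ⊗ Z).left, s ≫ ψ.left = ((Z ⊗ Z).hom ⁻¹ᵁ V.1).ι := by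
      intro V
      let O := (Z ⊗ Z).hom ⁻¹ᵁ V.1
      have hx : O ≤ (fst Z Z).left ⁻¹ᵁ (Z.hom ⁻¹ᵁ V.1) := by
        rw [← Scheme.Hom.comp_preimage, Over.w]
      have hy : O ≤ (snd Z Z).left ⁻¹ᵁ (Z.hom ⁻¹ᵁ V.1) := by
        rw [← Scheme.Hom.comp_preimage, Over.w]
      obtain ⟨s, hs₁, hs₂⟩ := (loc V).2 ((fst Z Z).left.resLE _ O hx) ((snd Z Z).left.resLE _ O hy) (by
        rw [← cancel_mono V.1.ι, Category.assoc, Category.assoc, morphismRestrict_ι,
          Scheme.Hom.resLE_comp_ι_assoc, Scheme.Hom.resLE_comp_ι_assoc, Over.w, Over.w])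
      refine ⟨s, pullback.hom_ext ?_ ?_⟩
      · rw [Category.assoc]
        show s ≫ (ψ ≫ fst Z Z).left = O.ι ≫ (fst Z Z).left
        rw [lift_fst, hs₁, Scheme.Hom.resLE_comp_ι]
      · rw [Category.assoc]
        show s ≫ (ψ ≫ snd Z Z).left = O.ι ≫ (snd Z Z).left
        rw [lift_snd, hs₂, Scheme.Hom.resLE_comp_ι]
    choose s hs using hsec
    haveI : Mono ψ.left := ⟨fun {U} u v huv => by
      let T : Over X := Over.mk (u ≫ (G ⊗ Z).hom)
      let u' : T ⟶ G ⊗ Z := Over.homMk u rfl
      let v' : T ⟶ G ⊗ Z := Over.homMk v (by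
        show v ≫ (G ⊗ Z).hom = u ≫ (G ⊗ Z).hom
        rw [← Over.w ψ, reassoc_of% huv])
      have e : u' = v' := (cancel_mono ψ).1 (Over.OverMorphism.ext huv)
      exact congrArg CommaMorphism.left e⟩
    let 𝒰 := (Z ⊗ Z).left.openCoverOfIsOpenCover _ hst
    let σ : (Z ⊗ Z).left ⟶ (G ⊗ Z).left := 𝒰.glueMorphisms s fun V V' => by
      rw [← cancel_mono ψ.left, Category.assoc, Category.assoc, hs, hs]
      exact pullback.condition
    have hσ : σ ≫ ψ.left = 𝟙 _ := by
      refine Scheme.Cover.hom_ext 𝒰 _ _ fun V => ?_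
      rw [Scheme.Cover.ι_glueMorphisms_assoc, Category.comp_id]
      exact hs V
    haveI : IsIso ψ.left :=
      ⟨σ, by rw [← cancel_mono ψ.left, Category.assoc, hσ, Category.comp_id, Category.id_comp], hσ⟩
    haveI : IsIso ((Over.forget X).map ψ) := ‹IsIso ψ.left›
    exact isIso_of_reflects_iso ψ (Over.forget X)
  · rintro _ _ ⟨⟩
    exact ⟨𝟙 _, Category.id_comp _⟩

end Groth.Agent.TorsorClos
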