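/-
Integral closedness in a localization with reduced quotient, and the relevant facts about flat
schemes over a discrete valuation ring.
-/
import Groth.Agent.GrpdLib.Basic
import Mathlib.AlgebraicGeometry.AffineScheme
import Groth.Agent.FpqcDesc.Props
import Mathlib.RingTheory.Polynomial.ScaleRoots
import Mathlib.RingTheory.DiscreteValuationRing.Basic
import Mathlib.RingTheory.Localization.Away.Basic
import Mathlib.AlgebraicGeometry.Morphisms.SchemeTheoreticallyDominant

set_option autoImplicit false
set_option linter.style.haveILetI false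

universe u

open CategoryTheory CategoryTheory.Limits AlgebraicGeometry

namespace Groth.Agent.TorsorClos

/-- A ring is integrally closed in the localization at a nonzerodivisor whose quotient is reduced. -/
theorem mem_range_of_isIntegral_of_radical {A A' : Type u} [CommRing A] [CommRing A'] (φ : A →+* A')
    (hφ : Function.Injective φ) (t : A) (hrad : ∀ (a : A) (n : ℕ), t ∣ a ^ n → t ∣ a)
    (ht : IsUnit (φ t)) (hden : ∀ y : A', ∃ (n : ℕ) (a : A), φ a = φ t ^ n * y)
    {y : A'} (hy : φ.IsIntegralElem y) : y ∈ Set.range φ := by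
  obtain ⟨n, a, ha⟩ := hden y
  induction n generalizing a with
  | zero => exact ⟨a, by rw [ha, pow_zero, one_mul]⟩
  | succ n ih =>
    obtain ⟨P, hPm, hP⟩ := hy
    have h0 : Polynomial.eval a (P.scaleRoots (t ^ (n + 1))) = 0 := by
      apply hφ
      rw [map_zero, ← Polynomial.eval₂_at_apply, ha, ← map_pow]
      exact Polynomial.scaleRoots_eval₂_eq_zero φ hP
    have h1 : t ∣ a ^ P.natDegree := by
      rw [← Ideal.mem_span_singleton, ← Ideal.Quotient.eq_zero_iff_mem, map_pow]
      let π := Ideal.Quotient.mk (Ideal.span {t})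
      have h2 := congrArg π h0
      rw [map_zero, ← Polynomial.eval₂_at_apply, Polynomial.eval₂_eq_sum_range,
        Polynomial.natDegree_scaleRoots, Finset.sum_range_succ] at h2
      rw [Finset.sum_eq_zero] at h2
      · rwa [zero_add, Polynomial.coeff_scaleRoots_natDegree, hPm.leadingCoeff, map_one,
          one_mul] at h2
      · intro i hi
        have hlt : i < P.natDegree := Finset.mem_range.mp hi
        have ht0 : π t = 0 := Ideal.Quotient.eq_zero_iff_mem.mpr (Ideal.mem_span_singleton_self t)
        rw [Polynomial.coeff_scaleRoots, map_mul, map_pow, map_pow, ht0, zero_pow (Nat.succ_ne_zero n),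
          zero_pow (Nat.sub_ne_zero_of_lt hlt), mul_zero, zero_mul]
    obtain ⟨b, rfl⟩ := hrad a _ h1
    refine ih b ?_
    apply ht.mul_left_cancel
    rw [← map_mul, ha, pow_succ']
    ring

variable {R : Type u} [CommRing R] [IsDomain R] [IsDiscreteValuationRing R]

/-- Denominators in the generic part of an algebra over a discrete valuation ring. -/
theorem exists_denominator {A A' : CommRingCat.{u}} {a : CommRingCat.of R ⟶ A}
    {inl : CommRingCat.of (FractionRing R) ⟶ A'} {inr : A ⟶ A'}
    (h : IsPushout (CommRingCat.ofHom (algebraMap R (FractionRing R))) a inl inr)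
    {ϖ : R} (hϖ : Irreducible ϖ) :
    IsUnit (inr.hom (a.hom ϖ)) ∧ ∀ y : A', ∃ (n : ℕ) (x : A), inr.hom x = inr.hom (a.hom ϖ) ^ n * y := by
  have hw : inl.hom.comp (algebraMap R (FractionRing R)) = inr.hom.comp a.hom :=
    congrArg CommRingCat.Hom.hom h.w
  have hu : IsUnit (inr.hom (a.hom ϖ)) := by
    rw [← RingHom.comp_apply, ← hw, RingHom.comp_apply]
    exact (IsUnit.mk0 _ ((map_ne_zero_iff _ (IsFractionRing.injective R (FractionRing R))).2
      hϖ.ne_zero)).map _
  refine ⟨hu, fun y => ?_⟩
  let t := a.hom ϖ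
  let L := Localization.Away t
  have hunit : ∀ s : nonZeroDivisors R, IsUnit (((algebraMap A L).comp a.hom) s) := by
    intro s
    obtain ⟨m, v, hv⟩ := IsDiscreteValuationRing.eq_unit_mul_pow_irreducible
      (nonZeroDivisors.coe_ne_zero s) hϖ
    rw [hv, map_mul, map_pow]
    exact ((Units.isUnit v).map _).mul ((IsLocalization.Away.algebraMap_isUnit t).pow m)
  let γ : A' ⟶ CommRingCat.of L := h.desc
    (CommRingCat.ofHom (IsLocalization.lift (M := nonZeroDivisors R) (S := FractionRing R) hunit))
    (CommRingCat.ofHom (algebraMap A L))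
    (CommRingCat.hom_ext (by simp [IsLocalization.lift_comp]))
  let β : CommRingCat.of L ⟶ A' := CommRingCat.ofHom (IsLocalization.Away.lift (S := L) t hu)
  have hβ : β.hom.comp (algebraMap A L) = inr.hom := IsLocalization.Away.lift_comp t hu
  have hid : γ ≫ β = 𝟙 A' := by
    apply h.hom_ext
    · rw [IsPushout.inl_desc_assoc, Category.comp_id]
      apply CommRingCat.hom_ext
      refine IsLocalization.ringHom_ext (nonZeroDivisors R) ?_
      rw [hw]
      ext r
      simp only [CommRingCat.hom_comp, CommRingCat.hom_ofHom, RingHom.comp_apply,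
        IsLocalization.lift_eq]
      exact RingHom.congr_fun hβ (a.hom r)
    · rw [IsPushout.inr_desc_assoc, Category.comp_id]
      exact CommRingCat.hom_ext hβ
  obtain ⟨n, x, hx⟩ := IsLocalization.Away.surj t (γ.hom y)
  refine ⟨n, x, ?_⟩
  have h2 := congrArg β.hom hx
  rw [map_mul, map_pow, ← CommRingCat.comp_apply, hid] at h2
  rw [show β.hom (algebraMap A L x) = inr.hom x from RingHom.congr_fun hβ x,
    show β.hom (algebraMap A L t) = inr.hom t from RingHom.congr_fun hβ t] at h2
  rw [← h2, mul_comm]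
  rfl

/-- Radicality of the uniformizer from a reduced special part. -/
theorem radical_of_isReduced {A B : CommRingCat.{u}} {a : CommRingCat.of R ⟶ A}
    {inl : CommRingCat.of (IsLocalRing.ResidueField R) ⟶ B} {inr : A ⟶ B}
    (h : IsPushout (CommRingCat.ofHom (IsLocalRing.residue R)) a inl inr) [_root_.IsReduced B]
    {ϖ : R} (hϖ : Irreducible ϖ) (x : A) (n : ℕ) (hx : a.hom ϖ ∣ x ^ n) : a.hom ϖ ∣ x := by
  let π : A ⟶ CommRingCat.of (A ⧸ Ideal.span {a.hom ϖ}) := CommRingCat.ofHom (Ideal.Quotient.mk _)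
  have hker : ∀ r ∈ IsLocalRing.maximalIdeal R, (π.hom.comp a.hom) r = 0 := by
    intro r hr
    rw [hϖ.maximalIdeal_eq, Ideal.mem_span_singleton] at hr
    exact Ideal.Quotient.eq_zero_iff_mem.mpr (Ideal.mem_span_singleton.mpr (map_dvd a.hom hr))
  let γ : B ⟶ CommRingCat.of (A ⧸ Ideal.span {a.hom ϖ}) := h.desc
    (CommRingCat.ofHom (Ideal.Quotient.lift _ (π.hom.comp a.hom) hker)) π
    (CommRingCat.hom_ext (RingHom.ext fun r => rfl))
  have h0 : inr.hom x = 0 := by
    apply IsReduced.eq_zero
    obtain ⟨c, hc⟩ := hx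
    refine ⟨n, ?_⟩
    rw [← map_pow, hc, map_mul]
    have : inr.hom (a.hom ϖ) = inl.hom (IsLocalRing.residue R ϖ) :=
      (congr($(h.w).hom ϖ)).symm
    rw [this, (IsLocalRing.residue_eq_zero_iff ϖ).mpr
      (hϖ.maximalIdeal_eq ▸ Ideal.mem_span_singleton_self ϖ), map_zero, zero_mul]
  have h1 := congrArg γ.hom h0
  rw [map_zero, ← CommRingCat.comp_apply, h.inr_desc] at h1
  exact Ideal.mem_span_singleton.mp (Ideal.Quotient.eq_zero_iff_mem.mp h1)

/-- Cartesian squares of affine schemes over spectra give pushouts of rings. -/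
theorem isPushout_of_isPullback_Spec {R₀ K : CommRingCat.{u}} {φ : R₀ ⟶ K} {P V : Scheme.{u}}
    [IsAffine V] [IsAffine P] {fst : P ⟶ Spec K} {snd : P ⟶ V} {v : V ⟶ Spec R₀}
    (h : IsPullback fst snd (Spec.map φ) v) :
    IsPushout φ ((Scheme.ΓSpecIso R₀).inv ≫ v.appTop) ((Scheme.ΓSpecIso K).inv ≫ fst.appTop)
      snd.appTop := by
  have h0 := isPushout_appTop_of_isPullback h
  exact h0.of_iso (Scheme.ΓSpecIso R₀) (Scheme.ΓSpecIso K) (Iso.refl _) (Iso.refl _)
    (Scheme.ΓSpecIso_naturality φ) (by simp) (by simp) (by simp)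

end Groth.Agent.TorsorClos
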